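import Cfsg.Agent.H357.EP.Signs_m3
import Cfsg.Agent.H318.Four.RowE6
import Cfsg.Agent.H129.FE.Grp
import Cfsg.Agent.Cit.HexG2
import Cfsg.Agent.H165.RV.HexLin
import Cfsg.Agent.Cit.HexD4
import Cfsg.Agent.S0204
import Cfsg.Agent.S1033
import Cfsg.Agent.FastGrp
import Cfsg.Agent.Prune
set_option linter.all false

section
prune_inst 0x7f00000000000000000000000000000000000000000000000000000000000000000000000000000000000000000000000000000000000000000000000000000000000000000000000000000000000000003fffffffffdfffffffffffffffffbeffbdffffffff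

-- part: H357/EP/Inv27
section
prune_inst 0x20000000000000000000000000000000
set_option linter.all false
open scoped Cfsg.Agent.FastGrp

/-!
# S5745, the kill V27 (helper357)

Elementary abelian 2-subgroups of `E₆(q)`, `²E₆(q)`, `q` odd, on the module of dimension 27: all involutions have trace
`3` or `-5`.

* `beta` : the traces;
* `card_le` : the order of an elementary abelian 2-subgroup is at most `64`;
* `no_pure` : no elementary abelian subgroup of order `16` with all involutions conjugate;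
* `no_split` : no elementary abelian subgroup of order `64` with `28` involutions in one class and `35` in one class.
-/

set_option autoImplicit false

namespace Cfsg.Agent.H357.EP

open Cfsg Cfsg.Lie Matrix
open Cfsg.Agent.ChevalleyStructure.E6Min Cfsg.Agent.ChevalleyStructure.E6Min.Tables
  Cfsg.Agent.ChevalleyStructure.E6Min.Basic Cfsg.Agent.ChevalleyStructure.E6Min.Forms
  Cfsg.Agent.ChevalleyStructure.E6Min.Inv Cfsg.Agent.ChevalleyStructure.E6Min.Elim
  Cfsg.Agent.ChevalleyStructure.E6Min.Torus Cfsg.Agent.ChevalleyStructure.E6Min.Adjoint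
open Cfsg.Agent.H318.Four

section

variable {F : Type} [Field F] [Fintype F] {E : Type*} [Group E]

omit [Fintype F] in
theorem exists_hom (hE : ∀ x : E, x * x = 1) (φ : E →* chevE6.group F) :
    ∃ ψ : E →* Zgrp F, ∀ x, ad F (ψ x) = φ x := by
  have hφ : ∀ x, φ x * φ x = 1 := fun x => by rw [← map_mul, hE, map_one]
  choose s hs hsφ using fun x => Lift.exists_lift (RowE6.ker3 F) ad_surjective (hφ x)
  have hcomm : ∀ x y : E, x * y = y * x := by
    intro x y
    have h1 : (x * y)⁻¹ = x * y := inv_eq_of_mul_eq_one_right (hE (x * y))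
    rw [_root_.mul_inv_rev, inv_eq_of_mul_eq_one_right (hE x), inv_eq_of_mul_eq_one_right (hE y)] at h1
    exact h1.symm
  have hc : ∀ x y, s x * s y = s y * s x := by
    intro x y
    have h1 : s x * s y * (s x)⁻¹ = s y := by
      apply Lift.unique (RowE6.ker3 F) _ (hs y)
      · rw [map_mul, map_mul, map_inv, hsφ, hsφ, ← map_mul, hcomm, map_mul, mul_inv_cancel_right]
      · rw [show s x * s y * (s x)⁻¹ * (s x * s y * (s x)⁻¹) = s x * (s y * s y) * (s x)⁻¹ by group, hs, mul_one,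
          mul_inv_cancel]
    exact mul_inv_eq_iff_eq_mul.1 h1
  refine ⟨MonoidHom.mk' s fun x y => ?_, hsφ⟩
  apply Lift.unique (RowE6.ker3 F) (hs _)
  · rw [show s x * s y * (s x * s y) = s x * (s y * s x) * s y by group, ← hc,
      show s x * (s x * s y) * s y = (s x * s x) * (s y * s y) by group, hs, hs, one_mul]
  · rw [hsφ, map_mul, map_mul, hsφ, hsφ]

omit [Fintype F] in
theorem rank_conj {g h : Zgrp F} (x : Zgrp F) (hx : x * g * x⁻¹ = h) :
    (((g : GL I27 F) : Matrix I27 I27 F) - 1).rank = (((h : GL I27 F) : Matrix I27 I27 F) - 1).rank := by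
  subst hx
  have h4 : (((x * g * x⁻¹ : Zgrp F) : GL I27 F) : Matrix I27 I27 F) - 1 =
      ((x : GL I27 F) : Matrix I27 I27 F) * ((((g : GL I27 F) : Matrix I27 I27 F) - 1) *
          (((x : GL I27 F)⁻¹ : GL I27 F) : Matrix I27 I27 F)) := by
    rw [Matrix.sub_mul, Matrix.mul_sub, one_mul, ← Units.val_mul (x : GL I27 F), mul_inv_cancel, Units.val_one,
      ← Units.val_mul, ← Units.val_mul, ← mul_assoc]
    rfl
  have hd : ∀ x : GL I27 F, IsUnit (x : Matrix I27 I27 F).det := fun x =>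
    (Matrix.isUnit_iff_isUnit_det _).1 x.isUnit
  rw [h4, Matrix.rank_mul_eq_right_of_isUnit_det _ _ (hd _), Matrix.rank_mul_eq_left_of_isUnit_det _ _ (hd _)]

omit [Fintype F] in
theorem rank_zero_iff (A : Matrix I27 I27 F) (h : A.rank = 0) : A = 0 := by
  rw [Matrix.rank, Submodule.finrank_eq_zero, LinearMap.range_eq_bot] at h
  ext i j
  have h1 := congrFun (LinearMap.congr_fun h (Pi.single j 1)) i
  simpa using h1

theorem card_I27 : Fintype.card I27 = 27 := by simp [I27]

/-- **the traces on the module of dimension 27** -/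
theorem beta (ho : Odd (Fintype.card F)) [Fintype E] (hE : ∀ x : E, x * x = 1) (φ : E →* chevE6.group F)
    (hφ : Function.Injective φ) :
    ∃ β : E → ℤ, β 1 = 27 ∧ (∀ x, x ≠ 1 → β x = 3 ∨ β x = -5) ∧
      (∀ x y, IsConj (φ x) (φ y) → β x = β y) ∧ (∃ m : ℕ, ∑ x, β x = Fintype.card E * (m : ℤ)) ∧
      27 * (Fintype.card E : ℤ) ≤ ∑ x, β x ^ 2 := by
  have h2 := H351.SpSix.two_ne_zero_of_odd ho
  obtain ⟨ψ, hψ⟩ := exists_hom hE φ
  obtain ⟨κ, iκ, χ, h1, h3, h4, h5⟩ := exists_signs h2 hE ((Zgrp F).subtype.comp ψ)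
  have hsq : ∀ x, ψ x * ψ x = 1 := fun x => by rw [← map_mul, hE, map_one]
  refine ⟨fun x => ∑ i, χ i x, ?_, ?_, ?_, sum_beta h3 h4, ?_⟩
  · dsimp only
    rw [← h5, map_one, Units.val_one, sub_self, Matrix.rank_zero, card_I27]
    norm_num
  · intro x hx
    dsimp only
    rw [← h5, card_I27]
    rcases E6Inv.rank_inv ho h2 (hsq x) with hr | hr | hr
    · exfalso
      apply hx
      apply hφ
      rw [← hψ, map_one]
      have h6 : ((((ψ x : Zgrp F) : GL I27 F) : Matrix I27 I27 F) - 1) = 0 := by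
        exact rank_zero_iff _ hr
      have h7 : ψ x = 1 := by
        apply Subtype.ext
        apply Units.ext
        rw [sub_eq_zero] at h6
        exact h6
      rw [h7, map_one]
    · left
      show (27 : ℕ) - 2 * (((((ψ x : Zgrp F) : GL I27 F) : Matrix I27 I27 F) - 1).rank : ℤ) = 3
      rw [hr]
      norm_num
    · right
      show (27 : ℕ) - 2 * (((((ψ x : Zgrp F) : GL I27 F) : Matrix I27 I27 F) - 1).rank : ℤ) = -5
      rw [hr]
      norm_num
  · intro x y hxy
    obtain ⟨g, hg⟩ := isConj_iff.1 hxy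
    obtain ⟨g', rfl⟩ := ad_surjective g
    dsimp only
    rw [← h5, ← h5]
    have h6 : g' * ψ x * g'⁻¹ = ψ y := by
      apply Lift.unique (RowE6.ker3 F) _ (hsq y)
      · rw [map_mul, map_mul, map_inv, hψ, hψ, hg]
      · rw [show g' * ψ x * g'⁻¹ * (g' * ψ x * g'⁻¹) = g' * (ψ x * ψ x) * g'⁻¹ by group, hsq, mul_one, mul_inv_cancel]
    have h7 := rank_conj g' h6
    show _ - 2 * (((((ψ x : Zgrp F) : GL I27 F) : Matrix I27 I27 F) - 1).rank : ℤ) =
      _ - 2 * (((((ψ y : Zgrp F) : GL I27 F) : Matrix I27 I27 F) - 1).rank : ℤ)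
    rw [h7]
  · have h6 := sum_sq h3 h4
    rw [h1, card_I27] at h6
    exact_mod_cast h6

end

/-- `T` embeds into `E₆(q)` or `²E₆(q)`, `q` odd -/
def InE6 (T : Type*) [Group T] : Prop :=
  ∃ (F : Type) (_ : Field F) (_ : Fintype F), Odd (Fintype.card F) ∧ ∃ f : T →* chevE6.group F, Function.Injective f

section

variable {T : Type*} [Group T]

theorem InE6.mono {S : Type*} [Group S] (h : InE6 T) (f : S →* T) (hf : Function.Injective f) : InE6 S := by
  obtain ⟨F, i1, i2, ho, g, hg⟩ := h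
  exact ⟨F, i1, i2, ho, g.comp f, hg.comp hf⟩

theorem inE6 {F : Type} [Field F] [Fintype F] (ho : Odd (Fintype.card F)) (e : T ≃* chevE6.group F) : InE6 T :=
  ⟨F, inferInstance, inferInstance, ho, e.toMonoidHom, e.injective⟩

theorem inE6_sub {F : Type} [Field F] [Fintype F] (ho : Odd (Fintype.card F)) (S : Subgroup (chevE6.group F)) :
    InE6 S :=
  ⟨F, inferInstance, inferInstance, ho, S.subtype, Subtype.val_injective⟩

theorem inE6_tw {F : Type} [Field F] [Fintype F] (ho : Odd (Fintype.card F)) {q : ℕ} (e : T ≃* twistedE6 F q) :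
    InE6 T := by
  have hle : twistedE6 F q ≤ chevE6.group F := H351.SpSix.genSubgroup_le H351.SpSix.IdealE.lac_E6.inList _
  exact ⟨F, inferInstance, inferInstance, ho, (Subgroup.inclusion hle).comp e.toMonoidHom,
    (Subgroup.inclusion_injective hle).comp e.injective⟩

/-- **the traces** -/
theorem InE6.beta (h : InE6 T) (E : Subgroup T) [Fintype E] (hE : ∀ x ∈ E, x * x = 1) :
    ∃ β : E → ℤ, β 1 = 27 ∧ (∀ x, x ≠ 1 → β x = 3 ∨ β x = -5) ∧
      (∀ x y : E, IsConj (x : T) (y : T) → β x = β y) ∧ (∃ m : ℕ, ∑ x, β x = Fintype.card E * (m : ℤ)) ∧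
      27 * (Fintype.card E : ℤ) ≤ ∑ x, β x ^ 2 := by
  obtain ⟨F, i1, i2, ho, g, hg⟩ := h
  obtain ⟨β, h1, h2, h3, h4, h5⟩ := EP.beta ho (E := E) (fun x => Subtype.ext (hE x x.2)) (g.comp E.subtype)
    (hg.comp Subtype.val_injective)
  exact ⟨β, h1, h2, fun x y hxy => h3 x y (MonoidHom.map_isConj g hxy), h4, h5⟩

/-- the bound for the order of an elementary abelian 2-subgroup, `m` the dimension of the fixed space -/
theorem InE6.bound (h : InE6 T) (E : Subgroup T) [Finite E] (hE : ∀ x ∈ E, x * x = 1) :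
    ∃ m : ℕ, Nat.card E * (6 + m) ≤ 384 := by
  classical
  have := Fintype.ofFinite E
  obtain ⟨β, h1, h2, -, ⟨m, h4⟩, h5⟩ := h.beta E hE
  refine ⟨m, ?_⟩
  rw [Nat.card_eq_fintype_card]
  have h6 : ∀ x : E, β x ^ 2 = (if x = 1 then 768 else 0) + (15 - 2 * β x : ℤ) := by
    intro x
    by_cases hx : x = 1
    · rw [if_pos hx, hx, h1]; norm_num
    · rw [if_neg hx]
      rcases h2 x hx with h | h <;> rw [h] <;> norm_num
  have h7 : ∑ x, β x ^ 2 = 768 + (15 * (Fintype.card E : ℤ) - 2 * (Fintype.card E * (m : ℤ))) := by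
    rw [Finset.sum_congr rfl fun x _ => h6 x, Finset.sum_add_distrib, Finset.sum_ite_eq' Finset.univ (1 : E),
      if_pos (Finset.mem_univ _), Finset.sum_sub_distrib, ← Finset.mul_sum, h4, Finset.sum_const, Finset.card_univ,
      nsmul_eq_mul, mul_comm (15 : ℤ)]
  rw [h7] at h5
  have h8 : (Fintype.card E : ℤ) * (6 + m) ≤ 384 := by linarith
  exact_mod_cast h8

/-- **the 2-rank of `E₆(q)` and `²E₆(q)`, `q` odd, is at most 6** -/
theorem InE6.card_le (h : InE6 T) (E : Subgroup T) [Finite E] (hE : ∀ x ∈ E, x * x = 1) : Nat.card E ≤ 64 := by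
  obtain ⟨m, hm⟩ := h.bound E hE
  have h1 : Nat.card E * 6 ≤ Nat.card E * (6 + m) := Nat.mul_le_mul_left _ (by omega)
  omega

/-- no elementary abelian group of order `2 ^ 7` -/
theorem InE6.no_seven (h : InE6 T) (E : Subgroup T) (hE : ∀ x ∈ E, x * x = 1) (hc : 64 < Nat.card E) : False := by
  have : Finite E := Nat.finite_of_card_ne_zero (by omega)
  have := h.card_le E hE
  omega

/-- the sum of the traces, by two sets of involutions -/
theorem InE6.sum (h : InE6 T) (E : Subgroup T) [Fintype E] (hE : ∀ x ∈ E, x * x = 1) (C : Set T) {u v : T}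
    (hC : ∀ x ∈ E, x ≠ 1 → x ∈ C → IsConj u x) (hC' : ∀ x ∈ E, x ≠ 1 → x ∉ C → IsConj v x)  :
    ∃ a b : ℤ, ∃ m : ℕ, (a = 3 ∨ a = -5) ∧ (b = 3 ∨ b = -5) ∧
      27 + a * Nat.card {x : E // x ≠ 1 ∧ (x : T) ∈ C} + b * Nat.card {x : E // x ≠ 1 ∧ (x : T) ∉ C} =
        Fintype.card E * (m : ℤ) := by
  classical
  obtain ⟨β, h1, h2, h3, ⟨m, h4⟩, -⟩ := h.beta E hE
  have key : ∀ D : Set T, ∀ w : T, (∀ x ∈ E, x ≠ 1 → x ∈ D → IsConj w x) → ∃ a : ℤ, (a = 3 ∨ a = -5) ∧
      ∀ x : E, x ≠ 1 → (x : T) ∈ D → β x = a := by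
    intro D w hD
    by_cases hne : ∃ x : E, x ≠ 1 ∧ (x : T) ∈ D
    · obtain ⟨x, hx, hxD⟩ := hne
      refine ⟨β x, h2 x hx, fun y hy hyD => h3 y x ?_⟩
      exact (hD y y.2 (fun e => hy (Subtype.ext e)) hyD).symm.trans (hD x x.2 (fun e => hx (Subtype.ext e)) hxD)
    · push Not at hne
      exact ⟨3, Or.inl rfl, fun x hx hxD => absurd hxD (hne x hx)⟩
  obtain ⟨a, ha, ha'⟩ := key C u hC
  obtain ⟨b, hb, hb'⟩ := key Cᶜ v hC'
  refine ⟨a, b, m, ha, hb, ?_⟩
  rw [← h4]
  have h6 : ∀ x : E, β x = (if x = 1 then 27 else 0) + (a * (if x ≠ 1 ∧ (x : T) ∈ C then 1 else 0) +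
      b * (if x ≠ 1 ∧ (x : T) ∉ C then 1 else 0)) := by
    intro x
    by_cases hx : x = 1
    · simp [hx, h1]
    · by_cases hxC : (x : T) ∈ C
      · simp [hx, hxC, ha' x hx hxC]
      · simp [hx, hxC, hb' x hx hxC]
  rw [Finset.sum_congr rfl fun x _ => h6 x, Finset.sum_add_distrib, Finset.sum_add_distrib, ← Finset.mul_sum,
    ← Finset.mul_sum, Finset.sum_ite_eq' Finset.univ (1 : E), if_pos (Finset.mem_univ _), Finset.sum_boole,
    Finset.sum_boole, Nat.card_eq_fintype_card, Nat.card_eq_fintype_card, Fintype.card_subtype, Fintype.card_subtype]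
  ring

/-- **no pure `2 ^ 4`** -/
theorem InE6.no_pure (h : InE6 T) (E : Subgroup T) (hE : ∀ x ∈ E, x * x = 1) (hc : Nat.card E = 16) {u : T}
    (hu : ∀ x ∈ E, x ≠ 1 → IsConj u x) : False := by
  classical
  have : Finite E := Nat.finite_of_card_ne_zero (by omega)
  have := Fintype.ofFinite E
  obtain ⟨a, b, m, ha, hb, h1⟩ := h.sum E hE Set.univ (fun x hx hx1 _ => hu x hx hx1)
    (fun x hx hx1 _ => hu x hx hx1)
  have h2 : Nat.card {x : E // x ≠ 1 ∧ (x : T) ∈ Set.univ} = 15 := by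
    have h3 : Nat.card {x : E // x ≠ 1 ∧ (x : T) ∈ Set.univ} = Nat.card {x : E // x ≠ 1} :=
      Nat.card_congr (Equiv.subtypeEquivRight fun x => by simp)
    have h4 : Fintype.card {x : E // x = 1} = 1 := Fintype.card_subtype_eq 1
    have h5 : Nat.card {x : E // x ≠ 1} = Fintype.card E - Fintype.card {x : E // x = 1} := by
      rw [Nat.card_eq_fintype_card]
      exact Fintype.card_subtype_compl _
    rw [h3, h5, h4, ← Nat.card_eq_fintype_card, hc]
  have h3 : Nat.card {x : E // x ≠ 1 ∧ (x : T) ∉ Set.univ} = 0 := by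
    rw [Nat.card_eq_zero]
    left
    exact ⟨fun x => x.2.2 (Set.mem_univ _)⟩
  rw [h2, h3, ← Nat.card_eq_fintype_card, hc] at h1
  rcases ha with rfl | rfl <;> omega

end

end Cfsg.Agent.H357.EP
end

-- part: H783/EX/Rank
section
set_option linter.all false
open scoped Cfsg.Agent.FastGrp

/-!
# S5745, `k ≥ 2`, odd characteristic: the 2-rank (helper783)

`EPS H N e`, `e : N ≃* (Fin k → T)`: every elementary abelian 2-subgroup `V` of `T` gives one of order `|V| ^ k` in `G`;
`T` contains a four-group, so `G` contains an elementary abelian group of order `4 ^ k`.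

* `g2_card_le`, `td4_card_le` : elementary abelian 2-subgroups of `G₂(q)`, `³D₄(q)`, `q` odd, have order at most 8
  (adjoint module, all involutions have trace `-2`, `-4`);
* `crossk_g2`, `crossk_td4` : no `EPS` with `2 ≤ k`;
* `inE6_le_three` : `k ≤ 3` in `E₆(q)`, `²E₆(q)`, `F₄(q)` (`q` odd), and `|V| ^ k ≤ 64`.
-/

set_option autoImplicit false
set_option linter.unusedSectionVars false

namespace Cfsg.Agent.H783.EX

open Cfsg Cfsg.Lie Matrix Cfsg.Agent.H357.EP
open Cfsg.Agent.ChevalleyStructure.Elts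
open Cfsg.Agent.H284 Cfsg.Agent.H209.EPX Cfsg.Agent.H542.EPX

/-! ### The bound from the traces -/

section bound

variable {F : Type} [Field F] {ι : Type} [Fintype ι] [DecidableEq ι]

/-- all involutions of an elementary abelian group `E` of matrices have `rank (x - 1) = r > n / 2` -/
theorem card_of_rank (h2 : (2 : F) ≠ 0) {E : Type*} [Group E] [Fintype E] (hE : ∀ x : E, x * x = 1)
    (φ : E →* GL ι F) {r : ℕ} (hr : ∀ x, x ≠ 1 → ((φ x : Matrix ι ι F) - 1).rank = r) :
    ∃ m : ℕ, (Fintype.card ι : ℤ) + ((Fintype.card E : ℤ) - 1) * (Fintype.card ι - 2 * r) = Fintype.card E * (m : ℤ) := by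
  classical
  obtain ⟨κ, iκ, χ, h1, h3, h4, h5⟩ := exists_signs h2 hE φ
  obtain ⟨m, hm⟩ := sum_beta h3 h4
  refine ⟨m, ?_⟩
  rw [← hm]
  have h6 : ∀ x : E, ∑ i, χ i x = (if x = 1 then 2 * (r : ℤ) else 0) + ((Fintype.card ι : ℤ) - 2 * r) := by
    intro x
    rw [← h5]
    by_cases hx : x = 1
    · rw [if_pos hx, hx, map_one, Units.val_one, sub_self, Matrix.rank_zero]
      push_cast
      ring
    · rw [if_neg hx, hr x hx]
      ring
  rw [Finset.sum_congr rfl fun x _ => h6 x, Finset.sum_add_distrib, Finset.sum_ite_eq' Finset.univ (1 : E),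
    if_pos (Finset.mem_univ _), Finset.sum_const, Finset.card_univ, nsmul_eq_mul]
  ring

theorem rank_conj {g h : GL ι F} (x : GL ι F) (hx : x * g * x⁻¹ = h) :
    ((g : Matrix ι ι F) - 1).rank = ((h : Matrix ι ι F) - 1).rank := by
  subst hx
  have h4 : ((x * g * x⁻¹ : GL ι F) : Matrix ι ι F) - 1 =
      (x : Matrix ι ι F) * (((g : Matrix ι ι F) - 1) * ((x⁻¹ : GL ι F) : Matrix ι ι F)) := by
    rw [Matrix.sub_mul, Matrix.mul_sub, one_mul, ← Units.val_mul x, mul_inv_cancel, Units.val_one,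
      ← Units.val_mul, ← Units.val_mul, ← mul_assoc]
  have hd : ∀ x : GL ι F, IsUnit (x : Matrix ι ι F).det := fun x =>
    (Matrix.isUnit_iff_isUnit_det _).1 x.isUnit
  rw [h4, Matrix.rank_mul_eq_right_of_isUnit_det _ _ (hd _), Matrix.rank_mul_eq_left_of_isUnit_det _ _ (hd _)]

/-- all involutions of `L ≤ GL` are conjugate to `g0` -/
theorem card_of_class (h2 : (2 : F) ≠ 0) (L : Subgroup (GL ι F)) (g0 : L) {r : ℕ}
    (hr : (((g0 : GL ι F) : Matrix ι ι F) - 1).rank = r)
    (hc : ∀ x : L, x * x = 1 → x ≠ 1 → IsConj g0 x)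
    {E : Type*} [Group E] [Fintype E] (hE : ∀ x : E, x * x = 1) (φ : E →* L) (hφ : Function.Injective φ) :
    ∃ m : ℕ, (Fintype.card ι : ℤ) + ((Fintype.card E : ℤ) - 1) * (Fintype.card ι - 2 * r) = Fintype.card E * (m : ℤ) := by
  refine card_of_rank h2 hE (L.subtype.comp φ) fun x hx => ?_
  have h1 : φ x * φ x = 1 := by rw [← map_mul, hE, map_one]
  have h3 : φ x ≠ 1 := fun h => hx (hφ (by rw [h, map_one]))
  obtain ⟨g, hg⟩ := isConj_iff.1 (hc _ h1 h3)
  rw [← hr]
  refine (rank_conj (g : GL ι F) ?_).symm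
  have := congrArg Subtype.val hg
  simpa only [_root_.MonoidHom.coe_comp, _root_.Subgroup.coe_subtype, _root_.Function.comp_apply, _root_.Subgroup.coe_mul, _root_.InvMemClass.coe_inv] using this

end bound

/-! ### The torus involution -/

section tor

variable {F : Type} [Field F] {D : ChevalleyDatum}

/-- the rank of `h_p(-1) - 1` -/
theorem rank_h (h2 : (2 : F) ≠ 0) (hD : InList D) {i : ℕ} (hi : i < D.rank) {r : ℕ}
    (hr : Fintype.card {j : D.Idx // Sum.elim (fun _ => false)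
      (fun s : Fin D.nroots => decide (D.cartan i s % 2 ≠ 0)) j = true} = r) :
    (((hG hD (D.simple i) (-1 : F) : GL D.Idx F) : Matrix D.Idx D.Idx F) - 1).rank = r := by
  classical
  rw [coe_hG, Cfsg.Agent.S1033.result D hD i hi (-1) (neg_ne_zero.2 one_ne_zero), ← Matrix.diagonal_one,
    Matrix.diagonal_sub, Matrix.rank_diagonal, ← hr]
  apply Fintype.card_congr
  refine Equiv.subtypeEquivRight fun j => ?_
  rcases j with j | s
  · simp
  · simp only [Sum.elim_inr, decide_eq_true_eq]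
    rcases Int.even_or_odd (D.cartan i s) with h | h
    · rw [h.neg_one_zpow, sub_self]
      have : D.cartan i s % 2 = 0 := Int.even_iff.1 h
      simp [this]
    · rw [h.neg_one_zpow]
      have h3 : D.cartan i s % 2 = 1 := Int.odd_iff.1 h
      have h4 : (-1 - 1 : F) ≠ 0 := by
        intro h5
        apply h2
        have h6 : (2 : F) = -(-1 - 1) := by ring
        rw [h6, h5, neg_zero]
      simp [h3, h4]

end tor

section groups

theorem sq_h {F : Type} [Field F] {D : ChevalleyDatum} (hD : InList D) {i : ℕ} (hi : i < D.rank) :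
    hG hD (D.simple i) (-1 : F) * hG hD (D.simple i) (-1 : F) = 1 := by
  apply Units.ext
  rw [Units.val_mul, coe_hG, Cfsg.Agent.S1033.result D hD i hi (-1) (neg_ne_zero.2 one_ne_zero),
    Matrix.diagonal_mul_diagonal, Units.val_one, ← Matrix.diagonal_one]
  congr 1
  funext j
  rcases j with j | s
  · simp
  · simp only [Sum.elim_inr]
    rw [← mul_zpow]
    norm_num

/-- **the 2-rank of `G₂(q)`, `q` odd, is at most 3** -/
theorem g2_card_le {F : Type} [Field F] [Finite F] (h2 : (2 : F) ≠ 0) {E : Type*} [Group E] [Finite E]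
    (hE : ∀ x : E, x * x = 1) (φ : E →* ↥(chevG2.group F)) (hφ : Function.Injective φ) : Nat.card E ≤ 8 := by
  classical
  have := Fintype.ofFinite E
  have : Finite ↥(chevG2.group F) := inferInstance
  have hD : InList chevG2 := by simp
  let g0 : ↥(chevG2.group F) := ⟨hG hD (chevG2.simple 0) (-1 : F), hG_mem_group _ _ _⟩
  have hr : (((g0 : GL chevG2.Idx F) : Matrix chevG2.Idx chevG2.Idx F) - 1).rank = 8 :=
    rank_h h2 hD (i := 0) (by decide) (by decide +kernel)
  have hne : g0 ≠ 1 := by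
    intro h
    rw [h] at hr
    simp only [_root_.OneMemClass.coe_one, _root_.Units.val_one, _root_.sub_self, _root_.Matrix.rank_zero, _root_.OfNat.zero_ne_ofNat] at hr
  have hsq : g0 * g0 = 1 := Subtype.ext (sq_h hD (by decide))
  obtain ⟨m, hm⟩ := card_of_class h2 _ g0 hr (fun x hx hx1 =>
    (Cfsg.Agent.Cit.HexG2.g2 F h2).isConj_invol h2 hsq hne hx hx1) hE φ hφ
  rw [Nat.card_eq_fintype_card]
  have h14 : Fintype.card chevG2.Idx = 14 := by decide +kernel
  rw [h14] at hm
  push_cast at hm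
  have h0 : (0 : ℤ) ≤ (Fintype.card E : ℤ) * m := by (clear * -; positivity)
  have h9 : (Fintype.card E : ℤ) ≤ 8 := by linarith only [hm, h0]
  exact_mod_cast h9

theorem x14_mem {K : Type} [Field K] {q : ℕ} {r : ℕ} (hr : r ∈ [d4p2, d4m2]) {t : K} (ht : t ^ q = t) (hD : InList chevD4) :
    xG hD r t ∈ twistedD4 K q :=
  Subgroup.subset_closure ⟨[(r, t)], Or.inl ⟨t, ht, r, hr, rfl⟩, by
    rw [coe_xG]
    show _ = (List.map _ [(r, t)]).prod
    simp⟩

theorem td4_mem {K : Type} [Field K] {q : ℕ} (hq : Odd q) (hD : InList chevD4) :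
    hG hD (chevD4.simple 1) (-1 : K) ∈ twistedD4 K q := by
  have h1 : (-1 : K) ^ q = -1 := hq.neg_one_pow
  have e1 : chevD4.simple 1 = d4p2 := by decide +kernel
  have e2 : chevD4.neg d4p2 = d4m2 := by decide +kernel
  have hn : nG hD d4p2 (-1 : K) ∈ twistedD4 K q := by
    rw [nG_def, e2]
    refine mul_mem (x14_mem (by simp) h1 hD) (mul_mem (x14_mem (by simp) ?_ hD) (x14_mem (by simp) h1 hD))
    norm_num
  rw [e1, hG_def]
  exact mul_mem hn hn

/-- **the 2-rank of `³D₄(q)`, `q` odd, is at most 3** -/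
theorem td4_card_le {K : Type} [Field K] [Fintype K] {q : ℕ} (hq : Odd q) (hK : Fintype.card K = q ^ 3)
    (h2 : (2 : K) ≠ 0) {E : Type*} [Group E] [Finite E]
    (hE : ∀ x : E, x * x = 1) (φ : E →* ↥(twistedD4 K q)) (hφ : Function.Injective φ) : Nat.card E ≤ 8 := by
  classical
  have := Fintype.ofFinite E
  have : Finite ↥(twistedD4 K q) := inferInstance
  have hD : InList chevD4 := by simp
  let g0 : ↥(twistedD4 K q) := ⟨hG hD (chevD4.simple 1) (-1 : K), td4_mem hq hD⟩
  have hr : (((g0 : GL chevD4.Idx K) : Matrix chevD4.Idx chevD4.Idx K) - 1).rank = 16 :=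
    rank_h h2 hD (i := 1) (by decide) (by decide +kernel)
  have hne : g0 ≠ 1 := by
    intro h
    rw [h] at hr
    simp only [_root_.OneMemClass.coe_one, _root_.Units.val_one, _root_.sub_self, _root_.Matrix.rank_zero, _root_.OfNat.zero_ne_ofNat] at hr
  have hsq : g0 * g0 = 1 := Subtype.ext (sq_h hD (by decide))
  obtain ⟨σ, -, ⟨c⟩⟩ := Cfsg.Agent.Cit.HexD4.exists_d4 hK
  obtain ⟨m, hm⟩ := card_of_class h2 _ g0 hr (fun x hx hx1 => c.isConj_invol h2 hsq hne hx hx1) hE φ hφ
  rw [Nat.card_eq_fintype_card]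
  have h28 : Fintype.card chevD4.Idx = 28 := by decide +kernel
  rw [h28] at hm
  push_cast at hm
  have h0 : (0 : ℤ) ≤ (Fintype.card E : ℤ) * m := by (clear * -; positivity)
  have h9 : (Fintype.card E : ℤ) ≤ 8 := by linarith only [hm, h0]
  exact_mod_cast h9

/-- `F₄(q)` embeds in `E₆(q)` -/
theorem inE6_f4 {F : Type} [Field F] [Fintype F] (ho : Odd (Fintype.card F)) {T : Type*} [Group T]
    (e : T ≃* ↥(chevF4.group F)) : InE6 T :=
  ⟨F, inferInstance, inferInstance, ho, (Cfsg.Agent.H129.FE.toE6 F).comp e.toMonoidHom,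
    (Cfsg.Agent.H129.FE.toE6_injective F).comp e.injective⟩

end groups

/-! ### Powers of a simple group -/

section eps

variable {G : Type*} [Group G] {H N : Subgroup G} {T : Type} [Group T] {k : ℕ} {e : N ≃* (Fin k → T)}

/-- `V ^ k ≤ T ^ k ≅ N ≤ G` -/
def powHom (e : N ≃* (Fin k → T)) (V : Subgroup T) : (Fin k → V) →* G :=
  N.subtype.comp (e.symm.toMonoidHom.comp
    (MonoidHom.mk' (fun f i => (f i : T)) fun f g => by funext i; simp))

theorem powHom_injective (e : N ≃* (Fin k → T)) (V : Subgroup T) : Function.Injective (powHom e V) := by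
  intro f g h
  have h1 := e.symm.injective (Subtype.ext h)
  funext i
  exact Subtype.ext (congrFun h1 i)

theorem card_pow (V : Subgroup T) : Nat.card (Fin k → V) = Nat.card V ^ k := by
  rw [Nat.card_pi]
  simp only [_root_.Finset.prod_const, _root_.Finset.card_univ, _root_.Fintype.card_fin]

/-- a nonabelian simple group contains a four-group -/
theorem exists_four [Finite T] (hs : IsSimpleGroup T) (hna : ∃ a b : T, a * b ≠ b * a) :
    ∃ V : Subgroup T, (∀ x ∈ V, x * x = 1) ∧ Nat.card V = 4 := by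
  obtain ⟨V, hV⟩ := Cfsg.Agent.S0204.result (G := T) (by
    intro hc
    obtain ⟨a, b, hab⟩ := hna
    have := hc.isMulCommutative
    exact hab (this.is_comm.comm a b))
  refine ⟨V, fun x hx => ?_, hV.card_four⟩
  have h1 : (⟨x, hx⟩ : V) ^ 2 = 1 := by
    rw [← hV.exponent_two]
    exact Monoid.pow_exponent_eq_one _
  have h2 := congrArg Subtype.val h1
  simpa only [pow_two, _root_.MulMemClass.mk_mul_mk, _root_.OneMemClass.coe_one] using h2

variable [Finite G]

theorem finite_T (e : N ≃* (Fin k → T)) (hk : 0 < k) : Finite T := by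
  have h1 : Finite (Fin k → T) := Finite.of_equiv _ e.toEquiv
  exact Finite.of_injective (fun t : T => (fun _ : Fin k => t)) fun a b h => congrFun h ⟨0, hk⟩

/-- **elementary abelian subgroups of order `4 ^ k`** -/
theorem exists_elem (h : EPS H N e) : ∃ (E : Subgroup G), (∀ x ∈ E, x * x = 1) ∧ Nat.card E = 4 ^ k := by
  have := finite_T e h.pos
  obtain ⟨V, hV, hc⟩ := exists_four h.simple h.nab
  refine ⟨(powHom e V).range, ?_, ?_⟩
  · rintro _ ⟨f, rfl⟩
    rw [← map_mul]
    have : f * f = 1 := by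
      funext i
      exact Subtype.ext (hV _ (f i).2)
    rw [this, map_one]
  · rw [← Nat.card_congr (MonoidHom.ofInjective (powHom_injective e V)).toEquiv, card_pow, hc]

/-- an elementary abelian 2-subgroup of `T` -/
theorem exists_elem_of (e : N ≃* (Fin k → T)) (V : Subgroup T) (hV : ∀ x ∈ V, x * x = 1) :
    ∃ (E : Subgroup G), (∀ x ∈ E, x * x = 1) ∧ Nat.card E = Nat.card V ^ k := by
  refine ⟨(powHom e V).range, ?_, ?_⟩
  · rintro _ ⟨f, rfl⟩
    rw [← map_mul]
    have : f * f = 1 := by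
      funext i
      exact Subtype.ext (hV _ (f i).2)
    rw [this, map_one]
  · rw [← Nat.card_congr (MonoidHom.ofInjective (powHom_injective e V)).toEquiv, card_pow]

/-- **`E₆(q)`, `²E₆(q)`, `F₄(q)`, `q` odd: `|V| ^ k ≤ 64`** -/
theorem pow_card_le (hG : InE6 G) (e : N ≃* (Fin k → T)) (V : Subgroup T) (hV : ∀ x ∈ V, x * x = 1) :
    Nat.card V ^ k ≤ 64 := by
  obtain ⟨E, hE, hc⟩ := exists_elem_of e V hV
  rw [← hc]
  exact hG.card_le E hE

/-- **`E₆(q)`, `²E₆(q)`, `F₄(q)`, `q` odd: `k ≤ 3`** -/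
theorem le_three (hG : InE6 G) (h : EPS H N e) : k ≤ 3 := by
  obtain ⟨E, hE, hc⟩ := exists_elem h
  have h1 := hG.card_le E hE
  rw [hc] at h1
  by_contra h4
  have h5 : 4 ^ 4 ≤ 4 ^ k := Nat.pow_le_pow_right (by norm_num) (by omega)
  omega

end eps

section final

/-- **`G₂(q)`, `q` odd: no `T ^ k`, `k ≥ 2`** -/
theorem g2_no {F : Type} [Field F] [Finite F] (h2 : (2 : F) ≠ 0) {H N : Subgroup ↥(chevG2.group F)} {T : Type} [Group T]
    {k : ℕ} {e : N ≃* (Fin k → T)} (hk : 2 ≤ k) (h : EPS H N e) : False := by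
  obtain ⟨E, hE, hc⟩ := exists_elem h
  have h1 := g2_card_le h2 (E := E) (fun x => Subtype.ext (hE x x.2)) E.subtype E.subtype_injective
  rw [hc] at h1
  have h5 : 4 ^ 2 ≤ 4 ^ k := Nat.pow_le_pow_right (by norm_num) hk
  omega

/-- **`³D₄(q)`, `q` odd: no `T ^ k`, `k ≥ 2`** -/
theorem td4_no {K : Type} [Field K] [Fintype K] {q : ℕ} (hq : Odd q) (hK : Fintype.card K = q ^ 3) (h2 : (2 : K) ≠ 0)
    {H N : Subgroup ↥(twistedD4 K q)} {T : Type} [Group T]
    {k : ℕ} {e : N ≃* (Fin k → T)} (hk : 2 ≤ k) (h : EPS H N e) : False := by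
  obtain ⟨E, hE, hc⟩ := exists_elem h
  have h1 := td4_card_le hq hK h2 (E := E) (fun x => Subtype.ext (hE x x.2)) E.subtype E.subtype_injective
  rw [hc] at h1
  have h5 : 4 ^ 2 ≤ 4 ^ k := Nat.pow_le_pow_right (by norm_num) hk
  omega

theorem crossk_g2 {F : Type} [Field F] [Finite F] (h2 : (2 : F) ≠ 0) (p : ℕ) : CrossK p ↥(chevG2.group F) :=
  fun _ _ _ _ _ _ hk h _ => g2_no h2 hk h

theorem crossk_td4 {K : Type} [Field K] [Fintype K] {q : ℕ} (hq : Odd q) (hK : Fintype.card K = q ^ 3)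
    (h2 : (2 : K) ≠ 0) (p : ℕ) : CrossK p ↥(twistedD4 K q) :=
  fun _ _ _ _ _ _ hk h _ => td4_no hq hK h2 hk h

end final

end Cfsg.Agent.H783.EX
end
end
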